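import Cfsg.Agent.H112.Rad3.Emb
import Cfsg.Agent.H468.RowConway
import Cfsg.Agent.TypeM.FactsMcL
import Cfsg.Agent.UGT.End.McLOuter
import Cfsg.Agent.Prune
set_option linter.all false
prune_inst 0x7f00000000000000000000000000000000000000000000000000000000000000000000000000000000000000000000000000000000000000000000000000000000000000000000000000000000000000003fffffffffffffffffffffffffffbeffbdffffffff
open scoped Cfsg.Agent.FastGrp

/-!
# The row of `McL` for elements of order three (helper112)

`PSU(4, 3)` embeds in `McL` with index `275`.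
-/

set_option autoImplicit false

namespace Cfsg.Agent.H112.Rad3

open Subgroup Cfsg

theorem oddInn_mcl {K : Type*} [Group K] (h : Spor.IsoMcL K) : Cfsg.Agent.BpSpor.Inn.OddInn K := by
  obtain ⟨hfin, hs, hcard, ⟨L⟩⟩ := Cfsg.Agent.TypeM.FactsMcL.facts h
  intro p hp hp2 α hα
  have h1 : Odd (orderOf α) := by
    rw [hα]
    exact hp.odd_of_ne_two hp2
  obtain ⟨g, hg⟩ := Cfsg.Agent.UGT.End.McLOuter.inner_of_odd L hcard α h1
  exact ⟨g, hg.symm⟩

theorem irow_mcl {K : Type*} [Group K] [Finite K] [IsSimpleGroup K] (h : Cfsg.Spor.IsoMcL K) :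
    Cfsg.Agent.H959.Rad3.IRow K := by
  have hcard := NotCT.Orders.mcl h
  have hin := oddInn_mcl h
  obtain ⟨e⟩ := h
  obtain ⟨F, _, _, hF, f, hf⟩ := H468.exists_psu_mcl
  have := S0283.result (F := F) (q := 3) (by rw [hF]; norm_num) 4 (by norm_num) (by norm_num)
  have hc := CTwoTab.card_psu_four_three hF
  exact irow_of_emb (e.symm.toMonoidHom.comp f) (e.symm.injective.comp hf) (m := 275) hc
    (by rw [hcard]) (by norm_num) (by norm_num) (not_solvable hc (by norm_num) (by norm_num)) hin

end Cfsg.Agent.H112.Rad3
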